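import Cfsg.Agent.DS.Cl.Inv_m3
import Mathlib
import Cfsg.Agent.H893.Tor.StabMod
import Cfsg.Agent.Nodes.RGDChev
import Cfsg.Agent.ChevalleyStructure.CoxeterWordCheck
import Cfsg.Agent.DS.Nt.Defs_m3
import Cfsg.Agent.H129.TorusChar
import Cfsg.Agent.S1092
import Cfsg.Agent.S1093
import Cfsg.Agent.Prune
set_option linter.all false

section
prune_inst 0x7fffa8fcfbb86ddfdfff7e7fa7fecdfc19931fffa4dffd43ffe069ff0bdf07000dc5a38d89e010fe1ff7421490287843fbfffeffe26ffc7ffffdfff41ffbee1ff5f7b508519c88b41fbc0ffe03f07f8a7f3fffffffffffffffffffffffffffbeffbfffffffff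

-- part: SB/Br/Mod
section
prune_inst 0x503004000000000018000010201e42860004b2000b80000840024006802c0220800661b03000000290004d40310040000000000028000000000000011c00800000100410000000000006000000400000000000000000000000000000000000000000000
set_option linter.all false
open scoped Cfsg.Agent.FastGrp

/-!
# S5765, classical groups: the models of `DS/Cl/Mod*` with the ring made explicit (helper98)
-/

set_option autoImplicit false

namespace Cfsg.Agent.SB.Br

open Cfsg Cfsg.Agent.DS.Cl Cfsg.Agent.DS.Cl.Fwd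

section general

variable {A : Type} [Ring A] [StarRing A]

/-- `T` is the group `F.S`, and the automorphisms in `Γ` are induced by `F.Aut` -/
def ModE (F : FR A) (T : Type) [Group T] (Γ : Set (MulAut T)) : Prop :=
  SS A ∧ F.Span ∧ ∃ e : F.S ≃* T,
    ∀ α ∈ Γ, ∃ γ ∈ F.Aut, ∀ s t : F.S, (t : RingAut A) = γ * s * γ⁻¹ → e t = α (e s)

/-- **a model from an embedding** -/
theorem modE_of (F : FR A) (hss : SS A) (hspan : F.Span) {K : Type} [Group K] (φ : K →* Aˣ)
    (hinj : Function.Injective φ) (hr : φ.range = ⁅F.Iso, F.Iso⁆) (Γ : Set (MulAut (K ⧸ Subgroup.center K)))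
    (hΓ : ∀ β ∈ Γ, ∃ γ ∈ F.Aut, ∀ k : K, ∃ k' : K,
      β (QuotientGroup.mk k) = QuotientGroup.mk k' ∧ γ (φ k : A) = φ k') :
    ModE F (K ⧸ Subgroup.center K) Γ := by
  have hmem : ∀ k : K, cj A (φ k) ∈ F.S := fun k => ⟨φ k, by rw [← hr]; exact ⟨k, rfl⟩, rfl⟩
  let f : K →* F.S := ((cj A).comp φ).codRestrict F.S hmem
  have hf : Function.Surjective f := by
    rintro ⟨_, u, hu, rfl⟩
    rw [← hr] at hu
    obtain ⟨k, rfl⟩ := hu
    exact ⟨k, rfl⟩
  have hker : Subgroup.center K = f.ker := by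
    ext k
    rw [MonoidHom.mem_ker, Subgroup.mem_center_iff]
    constructor
    · intro hk
      apply Subtype.ext
      change cj A (φ k) = 1
      have h1 : ∀ x : A, (φ k : A) * x = x * φ k := by
        intro x
        have hx : x ∈ Subring.closure ((Subring.center A : Set A) ∪
            ((fun u : Aˣ => (u : A)) '' (⁅F.Iso, F.Iso⁆ : Subgroup Aˣ))) := by
          rw [hspan]; trivial
        have h2 : Subring.closure ((Subring.center A : Set A) ∪
            ((fun u : Aˣ => (u : A)) '' (⁅F.Iso, F.Iso⁆ : Subgroup Aˣ))) ≤ Subring.centralizer {(φ k : A)} := by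
          rw [Subring.closure_le]
          rintro y (hy | ⟨u, hu, rfl⟩)
          · intro z hz
            rw [Set.mem_singleton_iff.1 hz]
            exact (Subring.mem_center_iff.1 hy) _
          · intro z hz
            rw [Set.mem_singleton_iff.1 hz]
            rw [← hr] at hu
            obtain ⟨g, rfl⟩ := hu
            rw [← Units.val_mul, ← Units.val_mul, ← map_mul, ← map_mul, hk g]
        exact h2 hx _ rfl
      ext x
      rw [cj_apply, h1, mul_assoc, Units.mul_inv, mul_one]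
      rfl
    · intro hk g
      have h1 : cj A (φ k) = 1 := congrArg Subtype.val hk
      have h2 : (φ k : A) * φ g * ((φ k)⁻¹ : Aˣ) = φ g := by
        rw [← cj_apply, h1]
        rfl
      apply hinj
      apply Units.ext
      rw [map_mul, map_mul, Units.val_mul, Units.val_mul]
      calc (φ g : A) * φ k = (φ k : A) * φ g * ((φ k)⁻¹ : Aˣ) * φ k := by rw [h2]
        _ = φ k * φ g := by rw [mul_assoc, Units.inv_mul, mul_one]
  let e : (K ⧸ Subgroup.center K) ≃* F.S :=
    (QuotientGroup.quotientMulEquivOfEq hker).trans (QuotientGroup.quotientKerEquivOfSurjective f hf)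
  have he : ∀ k : K, e.symm (f k) = QuotientGroup.mk k := fun k => by
    rw [MulEquiv.symm_apply_eq]
    rfl
  refine ⟨hss, hspan, e.symm, fun β hβ => ?_⟩
  obtain ⟨γ, hγ, h⟩ := hΓ β hβ
  refine ⟨γ, hγ, fun s t hst => ?_⟩
  obtain ⟨k, rfl⟩ := hf s
  obtain ⟨k', h1, h2⟩ := h k
  have h3 : t = f k' := by
    apply Subtype.ext
    rw [hst]
    change γ * cj A (φ k) * γ⁻¹ = cj A (φ k')
    ext x
    have h4 : γ (((φ k)⁻¹ : Aˣ) : A) = ((φ k')⁻¹ : Aˣ) := by
      have h5 : (φ k' : A) * γ (((φ k)⁻¹ : Aˣ) : A) = 1 := by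
        rw [← h2, ← map_mul, Units.mul_inv, map_one]
      exact (Units.eq_inv_of_mul_eq_one_left h5)
    change γ (cj A (φ k) (γ.symm x)) = _
    rw [cj_apply, cj_apply, map_mul, map_mul, h2, h4, RingEquiv.apply_symm_apply]
  rw [h3, he, he, h1]

end general

section L

open Cfsg.Agent.ClassicalGeometry.AutPSL.Auto (fld itr lift)
open scoped Matrix

theorem modL (F : Type) [Field F] [Fintype F] (n : ℕ) (hn : 2 ≤ n) (hn2 : n = 2 → 4 ≤ Fintype.card F) :
    ∃ R : FR (LR (Fin n) F), ModE R (Matrix.ProjectiveSpecialLinearGroup (Fin n) F) Set.univ := by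
  have hnt : Nontrivial (Fin n) := Fin.nontrivial_iff_two_le.2 hn
  let R : FR (LR (Fin n) F) := ⟨LR.mk 1 0, Lmax _, LR.half, Or.inr rfl⟩
  let φ : Matrix.SpecialLinearGroup (Fin n) F →* (LR (Fin n) F)ˣ := LR.gl.comp Matrix.SpecialLinearGroup.toGL
  have hφ : ∀ k, (φ k : LR (Fin n) F) = LR.mk k.1 (itr k).1 := fun k => by
    change (LR.gl (Matrix.SpecialLinearGroup.toGL k) : LR (Fin n) F) = _
    rw [LR.gl_val, ← map_inv]
    rfl
  have hinj : Function.Injective φ := fun A B H => Subtype.ext (congrArg (fun u : (LR (Fin n) F)ˣ => u.1.1) H)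
  have hr : (LR.gl (ι := Fin n) (F := F)).range = R.Iso := by
    ext u
    rw [LR.mem_gl]
    exact ⟨fun hu => mem_Iso_max rfl hu, fun hu => hu.1⟩
  have hc : φ.range = ⁅R.Iso, R.Iso⁆ := by
    have h1 : n = 2 → ∃ a : F, a ≠ 0 ∧ a ≠ 1 := fun h2 => by
      classical
      by_contra H
      push Not at H
      have h3 : (Finset.univ : Finset F) ⊆ {0, 1} := fun a _ => by
        by_cases ha : a = 0
        · simp [ha]
        · simp [H a ha]
      have h4 := (Finset.card_le_card h3).trans Finset.card_le_two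
      have h5 := hn2 h2
      rw [Finset.card_univ] at h4
      omega
    rw [← hr, comm_range, Cfsg.Agent.S0264.result n h1, MonoidHom.range_comp]
    congr 1
    ext A
    constructor
    · rintro ⟨k, rfl⟩
      exact Units.ext k.2
    · intro hA
      exact ⟨⟨A, congrArg Units.val (MonoidHom.mem_ker.1 hA)⟩, Units.ext rfl⟩
  have hspan : R.Span := by
    rw [FR.Span, eq_top_iff]
    intro x _
    obtain ⟨a, b, rfl⟩ := LR.exists_mk x
    set S := Subring.closure ((Subring.center (LR (Fin n) F) : Set (LR (Fin n) F)) ∪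
      ((fun u : (LR (Fin n) F)ˣ => (u : LR (Fin n) F)) '' (⁅R.Iso, R.Iso⁆ : Subgroup (LR (Fin n) F)ˣ))) with hS
    have h1 : (LR.mk 1 0 : LR (Fin n) F) ∈ S := Subring.subset_closure (Or.inl (Subring.mem_center_iff.2 fun g => by
      obtain ⟨c, d, rfl⟩ := LR.exists_mk g
      rw [LR.mk_mul, LR.mk_mul, mul_one, one_mul, mul_zero, zero_mul]))
    have h2 : (LR.mk 0 1 : LR (Fin n) F) ∈ S := Subring.subset_closure (Or.inl (Subring.mem_center_iff.2 fun g => by
      obtain ⟨c, d, rfl⟩ := LR.exists_mk g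
      rw [LR.mk_mul, LR.mk_mul, mul_one, one_mul, mul_zero, zero_mul]))
    have h3 : ∀ i j, i ≠ j → ∀ c : F, LR.mk (Matrix.single i j c) (Matrix.single j i (-c)) ∈ S := fun i j hij c => by
      have h4 : (φ (Matrix.SpecialLinearGroup.transvection hij c) : LR (Fin n) F) ∈ S :=
        Subring.subset_closure (Or.inr ⟨_, by rw [← hc]; exact ⟨_, rfl⟩, rfl⟩)
      have h5 := S.sub_mem h4 S.one_mem
      rw [hφ, Cfsg.Agent.ClassicalGeometry.AutPSL.Auto.itr_transvection, LR.one_eq, LR.mk_sub] at h5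
      change LR.mk (1 + Matrix.single i j c - 1) (1 + Matrix.single j i (-c) - 1) ∈ S at h5
      rwa [add_sub_cancel_left, add_sub_cancel_left] at h5
    have h4 : LR.mk a 0 ∈ S := by
      refine mat_ind (fun a => LR.mk a 0 ∈ S) S.zero_mem (fun a b ha hb => ?_) (fun a b ha hb => ?_)
        (fun i j hij c => ?_) a
      · have h5 := S.add_mem ha hb
        rwa [LR.mk_add, add_zero] at h5
      · have h5 := S.mul_mem ha hb
        rwa [LR.mk_mul, mul_zero] at h5
      · have h5 := S.mul_mem h1 (h3 i j hij c)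
        rwa [LR.mk_mul, one_mul, zero_mul] at h5
    have h5 : LR.mk 0 b ∈ S := by
      refine mat_ind (fun a => LR.mk 0 a ∈ S) S.zero_mem (fun a b ha hb => ?_) (fun a b ha hb => ?_)
        (fun i j hij c => ?_) b
      · have h5 := S.add_mem ha hb
        rwa [LR.mk_add, add_zero] at h5
      · have h5 := S.mul_mem ha hb
        rwa [LR.mk_mul, mul_zero] at h5
      · have h5 := S.mul_mem h2 (h3 j i hij.symm (-c))
        rwa [LR.mk_mul, one_mul, zero_mul, neg_neg] at h5
    have h6 := S.add_mem h4 h5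
    rwa [LR.mk_add, add_zero, zero_add] at h6
  let P : MulAut (Matrix.SpecialLinearGroup (Fin n) F) → Prop := fun e =>
    ∃ γ ∈ SAut (LR (Fin n) F), ∀ k, γ (φ k : LR (Fin n) F) = φ (e k)
  have hmul : ∀ e e', P e → P e' → P (e * e') := by
    rintro e e' ⟨γ, hγ, h⟩ ⟨γ', hγ', h'⟩
    refine ⟨γ * γ', mul_mem hγ hγ', fun k => ?_⟩
    change γ (γ' _) = _
    rw [h', h]
    rfl
  have hcj : ∀ A, P (Cfsg.Agent.ClassicalGeometry.AutPSL.Auto.cj A) := fun A => by
    refine ⟨cj _ (LR.gl A), cj_mem_SAut ((LR.mem_gl _).1 ⟨A, rfl⟩), fun k => ?_⟩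
    change ((LR.gl A * LR.gl (Matrix.SpecialLinearGroup.toGL k) * (LR.gl A)⁻¹ : (LR (Fin n) F)ˣ) : LR (Fin n) F) =
      (LR.gl (Matrix.SpecialLinearGroup.toGL (Cfsg.Agent.ClassicalGeometry.AutPSL.Auto.cj A k)) : (LR (Fin n) F)ˣ)
    rw [← map_inv, ← map_mul, ← map_mul]
    exact congrArg (fun B : GL (Fin n) F => (LR.gl B : LR (Fin n) F)) (Units.ext rfl)
  have hfld : ∀ σ, P (fld σ) := fun σ => by
    refine ⟨LR.fldAut σ, fun a => rfl, fun k => ?_⟩
    rw [hφ, hφ]
    have h1 : (itr (fld σ k)).1 = σ.mapMatrix (itr k).1 := by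
      rw [Cfsg.Agent.ClassicalGeometry.AutPSL.Auto.coe_itr, ← map_inv]
      rfl
    rw [h1]
    rfl
  have hitr : P itr := by
    refine ⟨LR.swapAut, fun a => rfl, fun k => ?_⟩
    have h1 : itr (itr k) = k := by
      rw [← MulAut.mul_apply, Cfsg.Agent.ClassicalGeometry.AutPSL.Auto.itr_mul_itr, MulAut.one_apply]
    rw [hφ, hφ, h1]
    rfl
  refine ⟨R, modE_of R LR.ss hspan φ hinj hc _ ?_⟩
  intro β _
  obtain ⟨e, he, rfl⟩ : ∃ e, P e ∧ β = lift e := by
    obtain ⟨p, hp⟩ := CharP.exists F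
    have hprime : Fact p.Prime := ⟨CharP.char_is_prime F p⟩
    rcases Nat.lt_or_ge n 3 with h | h
    · obtain rfl : n = 2 := by omega
      obtain ⟨A, σ, hA⟩ := Cfsg.Agent.ClassicalGeometry.AutPSL.Main.surj_two p β
      exact ⟨_, hmul _ _ (hcj A) (hfld σ), hA⟩
    · rcases Cfsg.Agent.ClassicalGeometry.AutPSL.Main.surj_three p h β with ⟨A, σ, hA⟩ | ⟨A, σ, hA⟩
      · exact ⟨_, hmul _ _ (hcj A) (hfld σ), hA⟩
      · exact ⟨_, hmul _ _ (hmul _ _ (hcj A) (hfld σ)) hitr, hA⟩
  obtain ⟨γ, hγ, h⟩ := he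
  exact ⟨γ, mem_Aut_max rfl hγ, fun k => ⟨e k, rfl, h k⟩⟩

end L

section U

open Cfsg.Agent.LieClassical.HermBasic Cfsg.Agent.LieClassical.HermSiegel
open Cfsg.Agent.ClassicalGeometry.PSUAutCount (gm semiConj toAut act_semiConj herm_semi gm_inv_mulVec gm_mulVec_inv
  toAut_pr)
open scoped Matrix commutatorElement

theorem modU (F : Type) [Field F] [Fintype F] (n q : ℕ) (hF : Fintype.card F = q ^ 2) (hn : 3 ≤ n)
    (h32 : ¬ (n = 3 ∧ q = 2)) : ∃ R : FR (unH n hF).EB, R.L = Lmax _ ∧ ModE R (PSU n F q) Set.univ := by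
  have hnt : Nontrivial (Fin n → F) := by
    have : Nonempty (Fin n) := ⟨⟨0, by omega⟩⟩
    infer_instance
  let h := unH n hF
  obtain ⟨c, hc1⟩ := exists_trace_eq hF (one_pow q)
  have hll : h.eb (c • 1) + star (h.eb (c • 1)) = 1 := h.ap_ext fun v => h.ext_right fun u => by
    rw [h.ap_add, h.add_right, h.b_star, h.ap_one, h.ap_eb, LinearMap.smul_apply, LinearMap.smul_apply,
      h.smul_right, h.smul_left]
    change c ^ q * h.b u v + c * h.b u v = h.b u v
    rw [← add_mul, add_comm, hc1, one_mul]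
  let R : FR h.EB := ⟨h.eb (c • 1), Lmax h.EB, hll, Or.inr rfl⟩
  let φ₀ : SU n F q →* Matrix (Fin n) (Fin n) F := ⟨⟨mat, mat_one⟩, mat_mul⟩
  let φ : SU n F q →* h.EBˣ := ((matHom h).comp φ₀).toHomUnits
  have hφ : ∀ A v, h.ap (φ A) v = act A v := fun A v => rfl
  have hinj : Function.Injective φ := fun A B H => mat_injective (matHom_inj h (congrArg Units.val H))
  have hle : φ.range ≤ R.Iso := by
    rintro _ ⟨A, rfl⟩
    exact mem_Iso_max rfl ((h.unit_iff _).2 fun x y => herm_act A x y)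
  have hc : φ.range = ⁅R.Iso, R.Iso⁆ := by
    apply le_antisymm
    · have e : φ.range = ⁅φ.range, φ.range⁆ := by
        rw [comm_range, Cfsg.Agent.LieClassical.HermPerfect.commutator_SU_eq_top hF hn h32,
          ← MonoidHom.range_eq_map]
      rw [e]
      exact Subgroup.commutator_mono hle hle
    · rw [Subgroup.commutator_le]
      intro a ha b hb
      have hu : ⁅a, b⁆ ∈ R.Iso := by
        rw [commutatorElement_def]
        exact mul_mem (mul_mem (mul_mem ha hb) (inv_mem ha)) (inv_mem hb)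
      have hd : detU h ⁅a, b⁆ = 1 := by
        rw [map_commutatorElement, commutatorElement_eq_one_iff_mul_comm, mul_comm]
      have h1 := (h.unit_iff _).1 hu.1
      refine ⟨mkSU (LinearMap.toMatrix' (h.ap (⁅a, b⁆ : h.EBˣ))) ?_ fun x y => ?_, Units.ext (matHom_surj h _)⟩
      · rw [LinearMap.det_toMatrix', ← detU_val, hd, Units.val_one]
      · rw [LinearMap.toMatrix'_mulVec, LinearMap.toMatrix'_mulVec]
        exact h1 x y
  have hspan : R.Span := by
    obtain ⟨e, f, H⟩ := Cfsg.Agent.ClassicalGeometry.PSUAutBasic.exists_frame (F := F) (q := q) (n := n) hF (by omega)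
    have he : e ≠ 0 := by
      rintro rfl
      exact zero_ne_one ((herm_zero_left f).symm.trans H.ef)
    obtain ⟨μ, hμ0, hμ⟩ := exists_trace_zero_ne hF
    refine h.span_top _ (fun c => Subring.subset_closure (Or.inl (h.smul_mem_center c)))
      {x | x ≠ 0 ∧ hermForm n F q x x = 0} ⟨e, he, H.ee⟩
      (fun x hx => hx.1) (fun x hx => ?_) (fun x hx v hv => ?_)
    · have hs : IsSiegel q x 0 μ := ⟨hx.2, herm_zero_left x, by rw [herm_zero_left, add_zero, hμ]⟩
      have e1 : h.eb (h.ro x x) = h.eb (μ⁻¹ • 1) * ((φ (siegel hF x 0 μ hs) : h.EB) - 1) := h.ap_ext fun v => by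
        rw [h.ap_mul, h.ap_sub, hφ, h.ap_one, h.ap_eb, h.ap_eb, h.ro_apply, act_siegel, smul_zero, add_zero,
          herm_zero_right hF, sub_zero, add_sub_cancel_left, LinearMap.smul_apply, Module.End.one_apply, smul_smul,
          ← mul_assoc, inv_mul_cancel₀ hμ0, one_mul]
        rfl
      rw [e1]
      refine Subring.mul_mem _ (Subring.subset_closure (Or.inl (h.smul_mem_center _))) (Subring.sub_mem _
        (Subring.subset_closure (Or.inr ⟨φ (siegel hF x 0 μ hs), ?_, rfl⟩)) (Subring.one_mem _))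
      rw [← hc]
      exact ⟨_, rfl⟩
    · have hv' : hermForm n F q v x ≠ 0 := hv
      have hxv : hermForm n F q x v ≠ 0 := h.ne_swap hv
      obtain ⟨t, ht⟩ := exists_trace_eq hF (c := -hermForm n F q v v) (by rw [neg_pow_q hF, herm_self_pow hF])
      have h1 : hermForm n F q (v + (t / hermForm n F q x v) • x) x = hermForm n F q v x := by
        rw [herm_add_left, herm_smul_left, hx.2, mul_zero, add_zero]
      refine ⟨t / hermForm n F q x v, ⟨fun h0 => hv' ?_, ?_⟩, fun h0 => hv' (h1.symm.trans h0)⟩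
      · rw [← h1, h0, herm_zero_left]
      · rw [herm_add_right hF, herm_smul_right, h1, herm_add_left, herm_smul_left, div_mul_cancel₀ _ hxv,
          herm_swap hF x v, ← mul_pow, div_mul_cancel₀ _ hxv, add_assoc, ht, add_neg_cancel]
  refine ⟨R, rfl, modE_of R h.ss hspan φ hinj hc _ ?_⟩
  intro β _
  obtain ⟨A, ρ, rfl⟩ := Cfsg.Agent.ClassicalGeometry.PSUAutMain.exists_toAut hF hn h32 β
  let g : Equiv.Perm (Fin n → F) :=
    { toFun := fun x => gm A *ᵥ fun i => ρ (x i)
      invFun := fun y j => ρ.symm ((gm A⁻¹ *ᵥ y) j)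
      left_inv := fun x => by
        funext j
        change ρ.symm ((gm A⁻¹ *ᵥ (gm A *ᵥ fun i => ρ (x i))) j) = x j
        rw [gm_inv_mulVec, ρ.symm_apply_apply]
      right_inv := fun y => by
        simp only [RingEquiv.apply_symm_apply]
        exact gm_mulVec_inv A y }
  have ha : ∀ u v, g (u + v) = g u + g v := fun u v => by
    change gm A *ᵥ _ = gm A *ᵥ _ + gm A *ᵥ _
    rw [← Matrix.mulVec_add]
    congr 1
    funext i
    exact map_add ρ _ _
  have hs : ∀ (c : F) v, g (c • v) = ρ c • g v := fun c v => by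
    change gm A *ᵥ _ = ρ c • gm A *ᵥ _
    rw [← Matrix.mulVec_smul]
    congr 1
    funext i
    exact map_mul ρ _ _
  refine ⟨h.semiAut g ρ ha hs, mem_Aut_max rfl (h.semiAut_mem g ρ ha hs (c := 1) fun u v => ?_),
    fun k => ⟨semiConj A ρ k, toAut_pr A ρ k, h.ap_ext fun v => ?_⟩⟩
  · rw [one_mul]
    exact herm_semi A ρ u v
  · obtain ⟨v, rfl⟩ := g.surjective v
    rw [h.ap_semiAut, hφ, hφ]
    exact (act_semiConj A ρ k v).symm

end U

section Sp

open Cfsg.Agent.ClassicalGeometry.SympBasic Cfsg.Agent.ClassicalGeometry.SympAutSemi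
open scoped Matrix

theorem modSp (F : Type) [Field F] [Fintype F] (m : ℕ) (hm : 2 ≤ m) (hm2 : m = 2 → 3 ≤ Fintype.card F) :
    ∃ R : FR (spH m F).EB, R.L = Lmax _ ∧ ModE R (PSp m F) (Psi m F).range := by
  have hnt : Nontrivial (Fin m ⊕ Fin m → F) := by
    have : Nonempty (Fin m ⊕ Fin m) := ⟨Sum.inl ⟨0, by omega⟩⟩
    infer_instance
  let h := spH m F
  obtain ⟨β, hβ⟩ := exists_half (sympBilin m F) (fun v => sympForm_self v)
  obtain ⟨l, hl⟩ := h.exists_op (fun _ => rfl) β
  have hll : l + star l = 1 := h.ap_ext fun v => h.ext_right fun u => by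
    rw [h.ap_add, h.add_right, h.b_star, hl, h.swap v (h.ap l u), hl, h.ap_one]
    change β u v + -1 * β v u = sympBilin m F u v
    rw [← hβ]
    ring
  let R : FR h.EB := ⟨l, Lmax h.EB, hll, Or.inr rfl⟩
  let φ : Matrix.symplecticGroup (Fin m) F →* h.EBˣ :=
    ((matHom h).comp (Matrix.symplecticGroup (Fin m) F).subtype).toHomUnits
  have hφ : ∀ A v, h.ap (φ A) v = (A : Matrix _ _ F) *ᵥ v := fun A v => rfl
  have hinj : Function.Injective φ := fun A B H => Subtype.ext (matHom_inj h (congrArg Units.val H))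
  have hr : φ.range = R.Iso := by
    ext u
    constructor
    · rintro ⟨A, rfl⟩
      exact mem_Iso_max rfl ((h.unit_iff _).2 fun x y => sympForm_mulVec A.2 x y)
    · intro hu
      have h1 := (h.unit_iff u).1 hu.1
      refine ⟨⟨LinearMap.toMatrix' (h.ap u), mem_symplecticGroup_iff.2 fun x y => ?_⟩, Units.ext (matHom_surj h u)⟩
      rw [LinearMap.toMatrix'_mulVec, LinearMap.toMatrix'_mulVec]
      exact h1 x y
  have hperf : commutator (Matrix.symplecticGroup (Fin m) F) = ⊤ := by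
    refine Cfsg.Agent.LieClassical.SympPerfect.commutator_eq_top ?_
    rcases (by omega : m = 2 ∨ 3 ≤ m) with h | h
    · exact Or.inr (Or.inl ⟨h, hm2 h⟩)
    · exact Or.inl h
  have hc : φ.range = ⁅R.Iso, R.Iso⁆ := by
    rw [← hr, comm_range, hperf, ← MonoidHom.range_eq_map]
  have hspan : R.Span := by
    refine h.span_top _ (fun c => Subring.subset_closure (Or.inl (h.smul_mem_center c))) {x | x ≠ 0}
      (exists_ne 0) (fun x hx => hx) (fun x _ => ?_) (fun x _ v hv => ⟨0, ?_, by rwa [zero_smul, add_zero]⟩)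
    · have e : h.eb (h.ro x x) = (φ (transv x 1) : h.EB) - 1 := h.ap_ext fun v => by
        rw [h.ap_sub, hφ, h.ap_one, h.ap_eb, h.ro_apply]
        change _ = sympTransvection m x 1 *ᵥ v - v
        rw [sympTransvection_mulVec, one_mul, add_sub_cancel_left]
        rfl
      rw [e]
      refine Subring.sub_mem _ (Subring.subset_closure (Or.inr ⟨φ (transv x 1), ?_, rfl⟩)) (Subring.one_mem _)
      rw [← hc]
      exact ⟨_, rfl⟩
    · rw [zero_smul, add_zero]
      rintro rfl
      exact hv (h.zero_left x)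
  refine ⟨R, rfl, modE_of R h.ss hspan φ hinj hc _ ?_⟩
  rintro _ ⟨g, rfl⟩
  obtain ⟨σ, c, -, hg⟩ := g.2
  refine ⟨h.semiAut g.1 σ hg.1 hg.2.1, mem_Aut_max rfl (h.semiAut_mem g.1 σ hg.1 hg.2.1 hg.2.2),
    fun A => ⟨Cfsg.Agent.ClassicalGeometry.SympAutSemi.conjHom m F g A, Psi_mk g A, h.ap_ext fun v => ?_⟩⟩
  obtain ⟨v, rfl⟩ := g.1.surjective v
  rw [h.ap_semiAut, hφ, hφ, ← rho_apply, ← rho_apply, rho_conjHom, Equiv.Perm.mul_apply, Equiv.Perm.mul_apply,
    perm_inv_apply_self]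

end Sp

section O

open QuadraticMap Cfsg.Agent.LieClassical.OrthCore Cfsg.Agent.LieClassical.OrthTrans
  Cfsg.Agent.ClassicalGeometry.OrthSemi

theorem modO (F V : Type) [Field F] [Finite F] [AddCommGroup V] [Module F V] [Finite V] (Q : QuadraticForm F V)
    (hG : Good Q) : ∃ R : FR (orH Q hG.nondeg).EB, R.L = Lmin _ ∧ (∀ v, polar Q v ((orH Q hG.nondeg).ap R.l v) = Q v) ∧
      ModE R (↥(E Q) ⧸ Subgroup.center ↥(E Q)) (Psi Q).range := by
  have : Module.Finite F V := Module.Finite.of_finite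
  obtain ⟨x₀, hx₀, hQx₀⟩ := hG.sing
  have hnt : Nontrivial V := ⟨x₀, 0, hx₀⟩
  let h := orH Q hG.nondeg
  obtain ⟨β, hβ⟩ := LinearMap.BilinMap.toQuadraticMap_surjective Q
  obtain ⟨l, hl⟩ := h.exists_op (fun _ => rfl) β
  have hlQ : ∀ v, polar Q v (h.ap l v) = Q v := fun v => by
    rw [← hβ]
    rw [LinearMap.BilinMap.toQuadraticMap_apply, hβ]
    exact hl v v
  have hll : l + star l = 1 := h.ap_ext fun v => h.ext_right fun u => by
    rw [h.ap_add, h.add_right, h.b_star, hl, h.swap v (h.ap l u), hl, h.ap_one]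
    change β u v + 1 * β v u = polar Q u v
    rw [one_mul, ← hβ, LinearMap.BilinMap.polar_toQuadraticMap]
  let R : FR h.EB := ⟨l, Lmin h.EB, hll, Or.inl rfl⟩
  let ψ₀ : (V ≃ₗ[F] V) →* h.EB :=
    { toFun := fun g => h.eb g
      map_one' := rfl
      map_mul' := fun _ _ => rfl }
  let ψ : (V ≃ₗ[F] V) →* h.EBˣ := ψ₀.toHomUnits
  have hψ : ∀ g v, h.ap (ψ g) v = g v := fun g v => rfl
  have hinj : Function.Injective ψ := fun g g' H => LinearEquiv.ext fun v => by rw [← hψ, ← hψ, H]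
  have hr : (O Q).map ψ = R.Iso := by
    ext u
    constructor
    · rintro ⟨g, hg, rfl⟩
      have hg' : ∀ v, Q (g v) = Q v := hg
      have h1 : ∀ x y, h.b (h.ap (ψ g) x) (h.ap (ψ g) y) = h.b x y := fun x y => by
        change polar Q (g x) (g y) = polar Q x y
        simp only [polar, ← map_add, hg']
      have h2 := (h.unit_iff _).2 h1
      refine ⟨h2, (mem_Lmin_iff Q hG.nondeg _).2 fun v => ?_⟩
      change h.b v (h.ap (ψ g * l * star (ψ g : h.EB) - l) v) = 0
      rw [h.ap_sub, h.sub_right, h.ap_mul, h.ap_mul, ← h.star_b]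
      change polar Q _ _ - polar Q _ _ = 0
      rw [hlQ, hlQ, ← hg', ← hψ, ← h.ap_mul, h2, h.ap_one, sub_self]
    · intro hu
      have h1 := (mem_Lmin_iff Q hG.nondeg _).1 hu.2
      let g : V ≃ₗ[F] V := LinearEquiv.ofLinearMap (h.ap u) (h.ap (u⁻¹ : h.EBˣ))
        (LinearMap.ext fun v => by rw [LinearMap.comp_apply, ← h.ap_mul, Units.mul_inv]; rfl)
        (LinearMap.ext fun v => by rw [LinearMap.comp_apply, ← h.ap_mul, Units.inv_mul]; rfl)
      refine ⟨g, fun v => ?_, Units.ext (h.ap_ext fun v => rfl)⟩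
      have h2 : h.b (h.ap u v) (h.ap (u * l * star (u : h.EB) - l) (h.ap u v)) = 0 := h1 (h.ap u v)
      have h3 : star (u : h.EB) * u = 1 := by
        have h4 : star (u : h.EB) = (u⁻¹ : h.EBˣ) := Units.eq_inv_of_mul_eq_one_left hu.1
        rw [h4, Units.inv_mul]
      rw [h.ap_sub, h.sub_right, h.ap_mul, h.ap_mul, ← h.star_b, ← h.ap_mul (star (u : h.EB)), h3, h.ap_one] at h2
      change polar Q _ _ - polar Q _ _ = 0 at h2
      rw [hlQ, hlQ, sub_eq_zero] at h2
      exact h2.symm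
  let φ : E Q →* h.EBˣ := ψ.comp (E Q).subtype
  have hc : φ.range = ⁅R.Iso, R.Iso⁆ := by
    rw [← hr, ← Subgroup.map_commutator, hG.commutator_eq_E, MonoidHom.range_comp, Subgroup.range_subtype]
  have hspan : R.Span := by
    refine h.span_top _ (fun c => Subring.subset_closure (Or.inl (h.smul_mem_center c))) {x | x ≠ 0 ∧ Q x = 0}
      ⟨x₀, hx₀, hQx₀⟩ (fun x hx => hx.1) (fun x hx => ?_) (fun x hx v hv => ?_)
    · obtain ⟨y, hy⟩ := exists_hyp hG.nondeg hx.2 hx.1
      obtain ⟨z, w, hzw, h1, h2, -, -⟩ := hG.exists_hyp2 hy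
      have hmem : ∀ (s : V) (hs : polar Q x s = 0), (ψ (siegel Q x s hx.2 hs) : h.EB) - 1 ∈
          Subring.closure ((Subring.center h.EB : Set h.EB) ∪
            ((fun u : h.EBˣ => (u : h.EB)) '' (⁅R.Iso, R.Iso⁆ : Subgroup h.EBˣ))) := fun s hs => by
        refine Subring.sub_mem _ (Subring.subset_closure (Or.inr ⟨ψ (siegel Q x s hx.2 hs), ?_, rfl⟩))
          (Subring.one_mem _)
        rw [← hc]
        exact ⟨⟨_, siegel_mem_E hx.2 hs⟩, rfl⟩
      have hxx : polar Q x x = 0 := by rw [polar_self, hx.2, smul_zero]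
      have hN : ∀ (s : V) (hs : polar Q x s = 0), Q s = 0 → ∀ v,
          h.ap ((ψ (siegel Q x s hx.2 hs) : h.EB) - 1) v = polar Q x v • s - polar Q s v • x := fun s hs hQs v => by
        rw [h.ap_sub, hψ, h.ap_one, siegel_apply, hQs, zero_mul, zero_smul]
        abel
      have e : h.eb (h.ro x x) = -(((ψ (siegel Q x z hx.2 h1) : h.EB) - 1) * ((ψ (siegel Q x w hx.2 h2) : h.EB) - 1)) := by
        rw [eq_neg_iff_add_eq_zero]
        apply h.ap_ext
        intro v
        rw [h.ap_add, h.ap_mul, hN z h1 hzw.left, hN w h2 hzw.right, h.ap_eb, h.ro_apply, polar_sub_right,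
          polar_sub_right, polar_smul_right, polar_smul_right, polar_smul_right, polar_smul_right, h2, hxx,
          hzw.pair, polar_comm Q z x, h1]
        change polar Q v x • x + _ = (0 : V)
        rw [polar_comm Q v x]
        simp
      rw [e]
      exact Subring.neg_mem _ (Subring.mul_mem _ (hmem z h1) (hmem w h2))
    · have hv' : polar Q v x ≠ 0 := hv
      have hxx : polar Q x x = 0 := by rw [polar_self, hx.2, smul_zero]
      have h1 : polar Q (v + (-(Q v) / polar Q v x) • x) x = polar Q v x := by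
        rw [polar_add_left, polar_smul_left, hxx, smul_zero, add_zero]
      refine ⟨-(Q v) / polar Q v x, ⟨fun h0 => hv' ?_, ?_⟩, fun h0 => hv' (h1.symm.trans h0)⟩
      · rw [← h1, h0, polar_zero_left]
      · rw [QuadraticMap.map_add (⇑Q), QuadraticMap.map_smul, hx.2, smul_zero, add_zero, polar_smul_right,
          smul_eq_mul]
        field_simp
        ring
  refine ⟨R, rfl, hlQ, modE_of R h.ss hspan φ (hinj.comp Subtype.val_injective) hc _ ?_⟩
  rintro _ ⟨g, rfl⟩
  obtain ⟨σ, c, hg⟩ := g.2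
  refine ⟨h.semiAut g.1 σ hg.add hg.smul, ⟨h.semiAut_mem g.1 σ hg.add hg.smul hg.polar,
    (mem_Lmin_iff Q hG.nondeg _).2 fun v => ?_⟩, fun k => ⟨conjE Q g k, Psi_mk g k, h.ap_ext fun v => ?_⟩⟩
  · obtain ⟨v, rfl⟩ := g.1.surjective v
    change h.b (g.1 v) (h.ap (h.semiAut g.1 σ hg.add hg.smul l - l) (g.1 v)) = 0
    rw [h.ap_sub, h.sub_right, h.ap_semiAut]
    change polar Q _ _ - polar Q _ _ = 0
    rw [hg.polar, hlQ, hlQ, hg.form, sub_self]
  · obtain ⟨v, rfl⟩ := g.1.surjective v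
    rw [h.ap_semiAut]
    exact (conjLin_apply' g k.1 v).symm

end O

end Cfsg.Agent.SB.Br
end

-- part: SB/Exc/Tor/W
section
prune_inst 0x1000040792202000000058001000020080000000000000010200400010b9000054200000a0008000802800000000000001000800000000000000000000000208000420002400004260009800000000000000000000000000000000000041000000000000
set_option linter.all false
open scoped Cfsg.Agent.FastGrp

-- part: SB/Exc/Tor/Lat
section
/-!
# S5765, exceptional groups, toral case: lattice lemmas (helper64)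

* `Ell u` : `u` has no non-zero fixed vector; `Ell.sum`;
* `no_div` : `c Q ⊆ (g - q) Q` is impossible for `g` of finite order and `c + 1 < q`;
* `det_rel`, `not_five`, `det_nine`, `det_three` : determinants in rank six;
* `not_ell_odd` : an isometry of determinant one in odd rank has a fixed vector.
-/

set_option autoImplicit false

namespace Cfsg.Agent.SB.Exc.Tor

open Polynomial

/-- endomorphisms of the lattice -/
abbrev En (l : ℕ) : Type := Module.End ℤ (Fin l → ℤ)

variable {l : ℕ}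

/-- no non-zero fixed vector -/
def Ell (u : En l) : Prop := ∀ x, u x = x → x = 0

theorem Ell.sum {u : En l} (h : Ell u) {n : ℕ} (hn : u ^ n = 1) : ∑ i ∈ Finset.range n, u ^ i = 0 := by
  refine LinearMap.ext fun x => h _ ?_
  have h1 := LinearMap.congr_fun (mul_geom_sum u n) x
  rw [hn, sub_self, Module.End.mul_apply, LinearMap.sub_apply, Module.End.one_apply, LinearMap.zero_apply,
    sub_eq_zero] at h1
  exact h1

theorem apply_sum {u : En l} {n : ℕ} (hn : u ^ n = 1) (x : Fin l → ℤ) :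
    (∑ i ∈ Finset.range n, u ^ i) (u x) = (∑ i ∈ Finset.range n, u ^ i) x := by
  have h1 := LinearMap.congr_fun (geom_sum_mul u n) x
  rw [hn, sub_self, Module.End.mul_apply, LinearMap.sub_apply, Module.End.one_apply, LinearMap.zero_apply, map_sub,
    sub_eq_zero] at h1
  exact h1

theorem sum_fix {u : En l} {x : Fin l → ℤ} (hx : u x = x) (n : ℕ) : (∑ i ∈ Finset.range n, u ^ i) x = (n : ℤ) • x := by
  induction n with
  | zero => simp
  | succ n ih =>
    have h1 : ∀ j : ℕ, (u ^ j) x = x := fun j => by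
      induction j with
      | zero => rfl
      | succ j ihj => rw [pow_succ, Module.End.mul_apply, hx, ihj]
    rw [Finset.sum_range_succ, LinearMap.add_apply, ih, h1, Nat.cast_succ, add_smul, one_smul]

/-- an invariant norm -/
theorem no_div (hl : 0 < l) {g : En l} {n : ℕ} (hn : 0 < n) (hg : g ^ n = 1) {q c : ℕ} (hc : c ≠ 0) (h : c + 1 < q)
    (H : ∀ x, ∃ y, g y - (q : ℤ) • y = (c : ℤ) • x) : False := by
  classical
  let a : (Fin l → ℤ) → ℕ := fun x => ∑ j, (x j).natAbs
  let ν : (Fin l → ℤ) → ℕ := fun x => ∑ i ∈ Finset.range n, a ((g ^ i) x)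
  have h1 : ∀ x, ν (g x) = ν x := fun x => by
    have e1 := Finset.sum_range_succ (fun i => a ((g ^ i) x)) n
    have e2 := Finset.sum_range_succ' (fun i => a ((g ^ i) x)) n
    rw [hg] at e1
    rw [pow_zero] at e2
    have e3 : ν (g x) = ∑ i ∈ Finset.range n, a ((g ^ (i + 1)) x) :=
      Finset.sum_congr rfl fun i _ => by rw [pow_succ, Module.End.mul_apply]
    rw [e3]
    change _ = ∑ i ∈ Finset.range n, a ((g ^ i) x)
    omega
  have h2 : ∀ (m : ℕ) x, ν ((m : ℤ) • x) = m * ν x := fun m x => by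
    simp only [ν, a, map_smul, Pi.smul_apply, smul_eq_mul, Int.natAbs_mul, Int.natAbs_natCast, Finset.mul_sum]
  have h3 : ∀ x y, ν (x - y) ≤ ν x + ν y := fun x y => by
    simp only [ν, a, map_sub, Pi.sub_apply, ← Finset.sum_add_distrib]
    exact Finset.sum_le_sum fun i _ => Finset.sum_le_sum fun j _ => Int.natAbs_sub_le _ _
  have h4 : ∀ x, x ≠ 0 → 0 < ν x := fun x hx => by
    obtain ⟨j, hj⟩ := Function.ne_iff.1 hx
    refine Finset.sum_pos' (fun _ _ => Nat.zero_le _) ⟨0, Finset.mem_range.2 hn, ?_⟩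
    exact Finset.sum_pos' (fun _ _ => Nat.zero_le _) ⟨j, Finset.mem_univ _, Int.natAbs_pos.2 hj⟩
  have hex : ∃ m, ∃ x : Fin l → ℤ, x ≠ 0 ∧ ν x = m :=
    ⟨_, fun _ => 1, fun e => one_ne_zero (congrFun e ⟨0, hl⟩), rfl⟩
  obtain ⟨x, hx, hm⟩ := Nat.find_spec hex
  obtain ⟨y, hy⟩ := H x
  have hy0 : y ≠ 0 := by
    rintro rfl
    rw [map_zero, smul_zero, sub_zero, eq_comm, smul_eq_zero] at hy
    exact hy.elim (fun e => hc (by exact_mod_cast e)) hx
  have h5 : ν x ≤ ν y := hm ▸ Nat.find_min' hex ⟨y, hy0, rfl⟩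
  have h6 := h3 (g y) ((c : ℤ) • x)
  rw [show g y - (c : ℤ) • x = (q : ℤ) • y by rw [← hy, sub_sub_cancel], h2, h2, h1] at h6
  have h7 := h4 x hx
  nlinarith only [h, h5, h6, h7]

theorem det_rel {u : En l} {P a e e' c d : ℤ[X]} {k : ℤ} {m : ℕ} (hP : aeval u P = 0)
    (h1 : a ^ m = C k * e + P * c) (h2 : e * e' = 1 + P * d) :
    (LinearMap.det (aeval u a)).natAbs ^ m = k.natAbs ^ l := by
  have e1 := congrArg (fun f => LinearMap.det (aeval u f)) h1
  have e2 := congrArg (fun f => (LinearMap.det (aeval u f)).natAbs) h2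
  simp only [map_add, map_mul, map_pow, hP, zero_mul, add_zero, map_one, aeval_C, Int.natAbs_mul,
    Int.natAbs_one] at e1 e2
  rw [← Int.natAbs_pow, e1, Int.natAbs_mul, Nat.eq_one_of_mul_eq_one_right e2, mul_one,
    Algebra.algebraMap_eq_smul_one, LinearMap.det_smul, map_one, mul_one, Int.natAbs_pow, Module.finrank_fin_fun]

theorem not_five {u : En 6} (h : ∑ i ∈ Finset.range 5, u ^ i = 0) : False := by
  have h1 := det_rel (u := u) (P := 1 + X + X ^ 2 + X ^ 3 + X ^ 4) (a := 1 - X) (e := -X + X ^ 2 - X ^ 3)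
    (e' := X ^ 2 * (1 + X) ^ 2) (c := 1) (d := -(X ^ 3 - X + 1)) (k := 5) (m := 4)
    (by simpa only [Finset.sum_range_succ, _root_.map_add, _root_.map_one, _root_.Polynomial.aeval_X, _root_.map_pow, _root_.Finset.range_one, _root_.Finset.sum_singleton, _root_.pow_zero, _root_.pow_one] using h) (by rw [show (C 5 : ℤ[X]) = 5 from rfl]; ring) (by ring)
  generalize (LinearMap.det (aeval u (1 - X : ℤ[X]))).natAbs = n at h1
  rcases le_or_gt n 11 with h2 | h2
  · have := Nat.pow_le_pow_left h2 4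
    rw [h1] at this
    norm_num at this
  · have := Nat.pow_le_pow_left h2 4
    rw [h1] at this
    norm_num at this

theorem det_nine {u : En 6} (h : ∑ i ∈ Finset.range 3, (u ^ 3) ^ i = 0) : (LinearMap.det (u - 1)).natAbs = 3 := by
  have h1 := det_rel (u := u) (P := 1 + X ^ 3 + X ^ 6) (a := X - 1)
    (e := -2 * X + 5 * X ^ 2 - 7 * X ^ 3 + 5 * X ^ 4 - 2 * X ^ 5)
    (e' := 10 + 11 * X + 7 * X ^ 2 + 10 * X ^ 3 + 4 * X ^ 4 - 4 * X ^ 5) (c := 1)
    (d := -1 - 20 * X + 28 * X ^ 2 - 28 * X ^ 3 + 8 * X ^ 4) (k := 3) (m := 6)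
    (by simpa only [Finset.sum_range_succ, ← pow_mul, _root_.map_add, _root_.map_one, _root_.map_pow, _root_.Polynomial.aeval_X, _root_.Finset.range_one, _root_.Finset.sum_singleton, _root_.MulZeroClass.mul_zero, _root_.pow_zero, _root_.mul_one, _root_.Nat.reduceMul] using h) (by rw [show (C 3 : ℤ[X]) = 3 from rfl]; ring) (by ring)
  rw [map_sub, aeval_X, map_one] at h1
  exact Nat.pow_left_injective (by norm_num) h1

theorem det_three {u : En 6} (h : ∑ i ∈ Finset.range 3, u ^ i = 0) :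
    (LinearMap.det (-u - ((2 : ℕ) : ℤ) • (1 : En 6))).natAbs = 27 := by
  have h1 := det_rel (u := u) (P := 1 + X + X ^ 2) (a := -X - C 2) (e := -X ^ 2) (e' := -X) (c := 4) (d := X - 1)
    (k := 3) (m := 2) (by simpa only [Finset.sum_range_succ, _root_.map_add, _root_.map_one, _root_.Polynomial.aeval_X, _root_.map_pow, _root_.Finset.range_one, _root_.Finset.sum_singleton, _root_.pow_zero, _root_.pow_one] using h)
    (by rw [show (C 3 : ℤ[X]) = 3 from rfl, show (C 2 : ℤ[X]) = 2 from rfl]; ring) (by ring)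
  rw [map_sub, map_neg, aeval_X, aeval_C, Algebra.algebraMap_eq_smul_one] at h1
  exact Nat.pow_left_injective (n := 2) (by norm_num) h1

/-- an isometry of determinant one in odd rank -/
theorem not_ell_odd (hl : Odd l) {A : Matrix (Fin l) (Fin l) ℤ} (hA : A.det ≠ 0) {u : En l}
    (hu : ∀ x y, u x ⬝ᵥ A.mulVec (u y) = x ⬝ᵥ A.mulVec y) (hd : LinearMap.det u = 1) : ¬ Ell u := by
  classical
  intro h
  set U := LinearMap.toMatrix' u with hU
  have h0 : ∀ x, U.mulVec x = u x := fun x => by rw [hU, LinearMap.toMatrix'_mulVec]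
  have h1 : U.transpose * (A * U) = A := by
    ext i j
    have h2 := hu (Pi.single i 1) (Pi.single j 1)
    rw [← h0, ← h0, Matrix.mulVec_mulVec, Matrix.mulVec_single_one, Matrix.mulVec_single_one,
      Matrix.mulVec_single_one, single_one_dotProduct] at h2
    rw [Matrix.mul_apply]
    exact h2
  have h2 : U.transpose * (A * (U - 1)) = (-(U - 1)).transpose * A := by
    rw [Matrix.mul_sub, Matrix.mul_sub, h1, Matrix.mul_one, neg_sub, Matrix.transpose_sub, Matrix.transpose_one,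
      Matrix.sub_mul, Matrix.one_mul]
  have h3 := congrArg Matrix.det h2
  rw [Matrix.det_mul, Matrix.det_mul, Matrix.det_mul, Matrix.det_transpose, Matrix.det_transpose, Matrix.det_neg,
    Fintype.card_fin, hl.neg_one_pow, hU, LinearMap.det_toMatrix', hd, ← hU] at h3
  have h4 : (U - 1).det = 0 := by
    have h5 : A.det * (2 * (U - 1).det) = 0 := by linear_combination h3
    simpa only [_root_.mul_eq_zero, _root_.OfNat.ofNat_ne_zero, _root_.false_or] using (mul_eq_zero.1 h5).resolve_left hA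
  obtain ⟨x, hx, h5⟩ := Matrix.exists_mulVec_eq_zero_iff.2 h4
  rw [Matrix.sub_mulVec, Matrix.one_mulVec, h0, sub_eq_zero] at h5
  exact hx (h x h5)

end Cfsg.Agent.SB.Exc.Tor
end

-- part: SB/Exc/Tor/Cnt6
section
/-!
# S5765, exceptional groups, toral case: the centralizer of an element `u` with `1 + u + u² = 0` in `E₆` (helper64)

* `card_le_1296` : a group of isometries of the root system commuting with `u` has order at most `72 * 9 * 2`.
-/

set_option autoImplicit false

namespace Cfsg.Agent.SB.Exc.Tor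

open Cfsg.Lie Cfsg.Agent.ChevalleyStructure.CoxeterGeom Cfsg.Agent.ChevalleyStructure.CoxeterGeomTypes
  Cfsg.Agent.Nodes.RGDChev Cfsg.Agent.H893.Tor Cfsg.Agent.ChevalleyStructure.RootVecTab
  Cfsg.Agent.ChevalleyStructure.RootVec Cfsg.Agent.Nodes.KindChev

theorem card_le_orbit {K X : Type*} [Group K] [Finite K] [MulAction K X] (x : X) (s : Finset ℕ) (f : ℕ → X)
    (h : ∀ k : K, ∃ r ∈ s, f r = k • x) : Nat.card K ≤ s.card * Nat.card (MulAction.stabilizer K x) := by
  classical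
  rw [← (MulAction.stabilizer K x).index_mul_card, MulAction.index_stabilizer]
  refine Nat.mul_le_mul_right _ ?_
  calc (MulAction.orbit K x).ncard ≤ ((s.image f : Finset X) : Set X).ncard :=
        Set.ncard_le_ncard (by
          rintro _ ⟨k, rfl⟩
          obtain ⟨r, hr, e⟩ := h k
          exact Finset.mem_coe.2 (Finset.mem_image.2 ⟨r, hr, e⟩)) (Finset.finite_toSet _)
    _ ≤ s.card := by rw [Set.ncard_coe_finset]; exact Finset.card_image_le

/-- the Cartan matrix -/
abbrev A6 : Fin 6 → Fin 6 → ℤ := cartanOf chevE6 6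

theorem A6_eq : A6 = ![![2, 0, -1, 0, 0, 0], ![0, 2, 0, -1, 0, 0], ![-1, 0, 2, -1, 0, 0], ![0, -1, -1, 2, -1, 0],
    ![0, 0, 0, -1, 2, -1], ![0, 0, 0, 0, -1, 2]] := by decide +kernel

theorem A6_symm : ∀ i j, A6 i j = A6 j i := by rw [A6_eq]; decide

/-- the form, explicitly -/
def bE (x y : ℕ → ℤ) : ℤ := (2 * x 0 - x 2) * y 0 + (2 * x 1 - x 3) * y 1 + (2 * x 2 - x 0 - x 3) * y 2 +
  (2 * x 3 - x 1 - x 2 - x 4) * y 3 + (2 * x 4 - x 3 - x 5) * y 4 + (2 * x 5 - x 4) * y 5

theorem bf_bE (x y : ℕ → ℤ) : bf A6 (fun i => x i) (fun i => y i) = bE x y := by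
  rw [A6_eq]
  simp only [bf, qf, pairing, bE, Fin.sum_univ_six, _root_.Nat.succ_eq_add_one, _root_.Nat.reduceAdd, _root_.Int.reduceNeg, _root_.Matrix.cons_val', _root_.Matrix.cons_val_fin_one, _root_.Fin.isValue, _root_.Matrix.cons_val_zero, _root_.Fin.coe_ofNat_eq_mod, _root_.Nat.zero_mod, _root_.Matrix.cons_val_one, _root_.Nat.one_mod, _root_.Matrix.cons_val, _root_.Nat.reduceMod, _root_.Nat.mod_succ, _root_.one_mul, _root_.MulZeroClass.zero_mul, _root_.add_zero, _root_.neg_mul, _root_.zero_add]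
  ring

/-- the table of the inner products plus two -/
def gT : ℕ := 0x8db6db6da4926db6db6d249249249249248924924949244924924871b6db4936d26da49245b69b69249125125a4924494892922492416e36d26d369a69369229b4d22da44b48a2534912914512894892096dc69a69b4da4d34d149a6d148b2d268945268a28a44a2514510496db8934da6da49a6ca4936ca45169a4c92924c945244944a2902496da51b6d369369245b49225b4da44a25b49225a4912912892424496d34e369b4d34d229a69145a68b2d145a69145348a28a25120a2896d26dc4da6d349949368a45365169929a4d129265228944a04948969b4da8db49b48b49a4d12912d328b69368a4522d225224844a25169a6d371a69b4526934ca28a2996534d34ca29149a25144128945169369b6e24db2924d26c948944a4da6d26c948a49324a4092512914db4da6946db48a25125a49a4d328a45245b69b4d224909144a24a4da6d34d38db45144a25349349965229229b4da69a24828a28944a4d369b49b71b29128945269264a4d949149a6d369324125225128a49b6926db6e324a4892924c92924936ca4936d24db2092494912524924db6db6dc24925248925249249249b6d249b6db04924924a4926da4d248a4498db69b49b49b4da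44a2522522512486da4d248a4496d349a45228971b4da69a69a68b2d145145144a2416d349a4522896d26932914896e26d36936936516992912912894096d269329148969b4916922516d46da4da4d12d328b68a44a44908969b49169225169a68a4d145169b8d34d34ca2996534ca28a28825169a68a4d14516936524992914db7126d26c944a4da6c948948124a6936524992916922da69224a6d34a36d125a4d328a45b6892122894db49144b4916914d34d144a69a69c6ca25349965229b4c90514514da68a28a69168a49b49928a4da4db8c945264a4d949a6c824a44a4d36522524d16524926d92524936db7092892924936d36c124929249b6494924994db49144b4916d34912636da4d328a44921b6922896922da69224a4da68a28a69169a68a25c6d349965228905b4d14516914d34d144a4d36522524d14da4c945b8d264a4d948825a6ca44a68a49b49928a49b6494924994936c929b7092924936c12536c92926524926d92524d22da44b48a6d225a45a4636d328921a45a45b4894d22da44b48a4d14d328a68a69945345345c69965105a29a29a6514d14d328a68a4ca49b2524ca4d929265265b84a4d825949949364a4ca49b2524ca49a2d168b45268b45a29a29a31b24345345345a2d149a2d168b4524994ca4ca6526526532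932932e160b2932932994994994ca4ca6524932996532924cb2994994994cc0ca6526526532ca49329965329249168b2d169245968b48b48b45885a2d22d22d165a49168b2d169248b45a45a2d22d22d169169164331969169168b48b48b45a45a2d248a6532994d22994ca68a68a6096e14d14d14ca65348a6532994d245a4896d245a44b6922d22c90da44c6cb48b4912da45a4896d245a45345169a29a28b4d14d14c828b2d38ca68a68a2d345345169a29a45264a4d949a2526ca4ca4c125169b70a4ca4c949b45264a4d949a4892db49248b49125b68921b6924912636d125b6922d249224b6d24512d26d245344a45b4c90522da44b49c6ca25a4da29a48948b69a44a29a69a29328a29a6c825148b2d269b8c94534d32934514534da4494934d94932514936c124a45169a4db70929269b29264a2926da2d249224b6d249124921b69b6924912512636db6924892db49248b29a48948b69a44a44905b4d22da44b48a25c6da4da4512d26d24532934514534da28a28825a6d148b2d268945b8d34d344a29a69a29329264a2926da2514812536ca45169a4c929b71269b4494934d94932912d248b69344921225225b4da44a25b49b4a36da2912d248b69328a29a4534d328905145145a68b2d145a69a69c6d328a29a4534d32894932926d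325024a44a45365169929a4da4db89b2894932926d325229169349b2422512912912d328b69369369b51b25229169349b25148a4d269b20944a28a28a2996534d34d34da6e325148a4d269b24a45249a4db04928948948944a4da6d26d26d36dc24a45249a4db4924492492486db6d249b6d24924924892524892498db6db6da4924892922492416da49b69245b69249125a49125244971b6db4936d245128948920969369b4d22922da44b49348a2512916e36d26d369a44a2514510494d34da6d149148b2d269268944a28a6dc69a69b4da44944a29024949a6d36ca48a45169a4d24c92894526db8934da6da29128924244969245225b49b4da44a25225b49a4916da51b6d369328a25120a2894d229145a69a68b2d145145a69348a6d34e369b4d328944a04948949948a45369365169929129a4d26526d26dc4da6d325224844a25148b49129a4d12d328b68a4536922d269b4da8db49b25144128945145268a2934ca2996534ca2934d149a69a6d371a69b24a4092512912924c94926c944a4da6c94926ca49369369b6e24db24909144a24a48a25a49125a4d328a45b69245b4d24db4da6946db24828a28944a45145348a25349965229b4d229a69a4da6d34d38db24125225128a29129268945264a4d949a6d14936934d369b49b71b20924949125224a4924c92892924936d36ca4924db49b6926db6e304924924a49224924925249249249249249b6db6db4924db6db6dc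

/-- the inner product of two roots plus two -/
def gm (r s : ℕ) : ℕ := Nat.mod (Nat.shiftRight gT (3 * (72 * r + s))) 8

private def wv (x : ℕ → ℤ) (i : ℕ) : ℤ := [2 * x 0 - x 2, 2 * x 1 - x 3, 2 * x 2 - x 0 - x 3, 2 * x 3 - x 1 - x 2 - x 4,
  2 * x 4 - x 3 - x 5, 2 * x 5 - x 4].getD i 0

private def wn (r i : ℕ) : ℕ := Int.toNat (wv (rt chevE6 r) i + 2)

private def yn (r i : ℕ) : ℕ := Int.toNat (rt chevE6 r i + 3)

private def ws (r : ℕ) : ℕ := 3 * (wn r 0 + wn r 1 + wn r 2 + wn r 3 + wn r 4 + wn r 5)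

private def ys (r : ℕ) : ℕ := 2 * (yn r 0 + yn r 1 + yn r 2 + yn r 3 + yn r 4 + yn r 5)

private theorem gm_fast : allLT (fun r => allLT (fun i => decide (0 ≤ wv (rt chevE6 r) i + 2 ∧ 0 ≤ rt chevE6 r i + 3)) 6 &&
    allLT (fun s => Nat.beq (Nat.add (Nat.add (Nat.add (Nat.add (Nat.add (Nat.add (Nat.mul (wn r 0) (yn s 0))
      (Nat.mul (wn r 1) (yn s 1))) (Nat.mul (wn r 2) (yn s 2))) (Nat.mul (wn r 3) (yn s 3))) (Nat.mul (wn r 4) (yn s 4)))
      (Nat.mul (wn r 5) (yn s 5))) 38) (Nat.add (Nat.add (gm r s) (ws r)) (ys s))) 72) 72 = true := by decide +kernel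

theorem gm_chk : allLT (fun r => allLT (fun s => decide (bE (rt chevE6 r) (rt chevE6 s) = (gm r s : ℤ) - 2)) 72) 72 =
    true := by
  have h := fun r hr => Bool.and_eq_true_iff.1 ((allLT_iff _ _).1 gm_fast r hr)
  have hw : ∀ r < 72, ∀ i < 6, (wn r i : ℤ) = wv (rt chevE6 r) i + 2 := fun r hr i hi =>
    Int.toNat_of_nonneg (of_decide_eq_true ((allLT_iff _ _).1 (h r hr).1 i hi)).1
  have hy : ∀ r < 72, ∀ i < 6, (yn r i : ℤ) = rt chevE6 r i + 3 := fun r hr i hi =>
    Int.toNat_of_nonneg (of_decide_eq_true ((allLT_iff _ _).1 (h r hr).1 i hi)).2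
  refine (allLT_iff _ _).2 fun r hr => (allLT_iff _ _).2 fun s hs => decide_eq_true ?_
  have h1 : wn r 0 * yn s 0 + wn r 1 * yn s 1 + wn r 2 * yn s 2 + wn r 3 * yn s 3 + wn r 4 * yn s 4 + wn r 5 * yn s 5 + 38 =
      gm r s + 3 * (wn r 0 + wn r 1 + wn r 2 + wn r 3 + wn r 4 + wn r 5) +
        2 * (yn s 0 + yn s 1 + yn s 2 + yn s 3 + yn s 4 + yn s 5) :=
    beq_iff.1 ((allLT_iff _ _).1 (h r hr).2 s hs)
  have h2 := congrArg (Nat.cast : ℕ → ℤ) h1
  simp only [Nat.cast_add, Nat.cast_mul, Nat.cast_ofNat, hw r hr 0 (by decide), hw r hr 1 (by decide), hw r hr 2 (by decide),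
    hw r hr 3 (by decide), hw r hr 4 (by decide), hw r hr 5 (by decide), hy s hs 0 (by decide), hy s hs 1 (by decide),
    hy s hs 2 (by decide), hy s hs 3 (by decide), hy s hs 4 (by decide), hy s hs 5 (by decide)] at h2
  have h3 : ∀ x y : ℕ → ℤ, bE x y = wv x 0 * y 0 + wv x 1 * y 1 + wv x 2 * y 2 + wv x 3 * y 3 + wv x 4 * y 4 +
      wv x 5 * y 5 := fun _ _ => rfl
  rw [h3]
  linear_combination h2

theorem gm_eq {r s : ℕ} (hr : r < 72) (hs : s < 72) {c : ℕ} :
    gm r s = c ↔ bf A6 (vec chevE6 6 r) (vec chevE6 6 s) = (c : ℤ) - 2 := by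
  have h1 := of_decide_eq_true ((allLT_iff _ _).1 ((allLT_iff _ _).1 gm_chk r hr) s hs)
  have h2 : bf A6 (vec chevE6 6 r) (vec chevE6 6 s) = bE (rt chevE6 r) (rt chevE6 s) := bf_bE _ _
  rw [h2, h1]
  omega

/-- the candidates for the second root -/
def sB (a' : ℕ) : Finset ℕ := (Finset.range 72).filter fun b => gm b 56 = 3 ∧ gm b a' = 2

/-- the candidates for the third root -/
def sC (a' b b' : ℕ) : Finset ℕ :=
  (Finset.range 72).filter fun c => gm c b' = 3 ∧ gm c 56 = 2 ∧ gm c a' = 2 ∧ gm c b = 2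

private noncomputable def cnt (p : ℕ → Bool) (n : ℕ) : ℕ := Nat.rec 0 (fun k ih => Bool.rec ih (Nat.succ ih) (p k)) n

private theorem card_cnt {P : ℕ → Prop} [DecidablePred P] {p : ℕ → Bool} (h : ∀ k, P k ↔ p k = true) (n : ℕ) :
    ((Finset.range n).filter P).card = cnt p n := by
  induction n with
  | zero => rfl
  | succ n ih =>
    have e : cnt p (n + 1) = Bool.rec (cnt p n) (Nat.succ (cnt p n)) (p n) := rfl
    rw [Finset.range_add_one, Finset.filter_insert, e]
    cases hp : p n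
    · rw [if_neg (by rw [h, hp]; exact Bool.false_ne_true), ih]
    · rw [if_pos ((h n).2 hp), Finset.card_insert_of_notMem (fun h1 => Finset.notMem_range_self (Finset.mem_filter.1 h1).1), ih]

private theorem rec_true {a b : Bool} : (Bool.rec false b a : Bool) = true ↔ a = true ∧ b = true := by
  cases a <;> cases b <;> decide

theorem cnt_chk : allLT (fun a' => !(Nat.beq (gm 56 a') 1) || (Nat.beq (sB a').card 9 &&
    allLT (fun b => !(Nat.beq (gm b 56) 3 && Nat.beq (gm b a') 2) ||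
      allLT (fun b' => !(Nat.beq (gm b' 56) 1 && (Nat.beq (gm b' a') 3 && Nat.beq (gm b' b) 1)) ||
        Nat.beq (sC a' b b').card 2) 72) 72)) 72 = true := by
  have e1 : ∀ a', (sB a').card = cnt (fun b => Bool.rec false (Nat.beq (gm b a') 2) (Nat.beq (gm b 56) 3)) 72 :=
    fun a' => card_cnt (fun k => by rw [rec_true, beq_iff, beq_iff]) 72
  have e2 : ∀ a' b b', (sC a' b b').card = cnt (fun c => Bool.rec false (Bool.rec false (Bool.rec false (Nat.beq (gm c b) 2)
      (Nat.beq (gm c a') 2)) (Nat.beq (gm c 56) 2)) (Nat.beq (gm c b') 3)) 72 :=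
    fun a' b b' => card_cnt (fun k => by rw [rec_true, rec_true, rec_true, beq_iff, beq_iff, beq_iff, beq_iff]) 72
  simp only [e1, e2]
  decide +kernel

theorem cnt_B {a' : ℕ} (ha : a' < 72) (h : gm 56 a' = 1) : (sB a').card = 9 := by
  have h1 := (allLT_iff _ _).1 cnt_chk a' ha
  simp only [Bool.or_eq_true, Bool.not_eq_true', Bool.and_eq_true, beq_iff, h, Nat.beq_refl, Bool.true_eq_false,
    false_or] at h1
  exact h1.1

theorem cnt_C {a' b b' : ℕ} (ha : a' < 72) (hb : b < 72) (hb' : b' < 72) (h : gm 56 a' = 1) (h1 : gm b 56 = 3)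
    (h2 : gm b a' = 2) (h3 : gm b' 56 = 1) (h4 : gm b' a' = 3) (h5 : gm b' b = 1) : (sC a' b b').card = 2 := by
  have e1 := (allLT_iff _ _).1 cnt_chk a' ha
  simp only [Bool.or_eq_true, Bool.not_eq_true', Bool.and_eq_true, h, Nat.beq_refl, Bool.true_eq_false,
    false_or] at e1
  have e2 := (allLT_iff _ _).1 e1.2 b hb
  simp only [Bool.or_eq_true, Bool.not_eq_true', h1, h2, Nat.beq_refl, Bool.and_self, Bool.true_eq_false,
    false_or] at e2
  have e3 := (allLT_iff _ _).1 e2 b' hb'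
  simp only [Bool.or_eq_true, Bool.not_eq_true', h3, h4, h5, Nat.beq_refl, Bool.and_self, Bool.true_eq_false,
    false_or, beq_iff] at e3
  exact e3

/-- the roots -/
def R6 (x : Fin 6 → ℤ) : Prop := ∃ r < 72, vec chevE6 6 r = x

theorem bf_mat (x y : Fin 6 → ℤ) : bf A6 x y = y ⬝ᵥ (Matrix.of A6).mulVec x := by
  simp only [bf, qf, pairing, dotProduct, Matrix.mulVec, Matrix.of_apply, one_mul]
  exact Finset.sum_congr rfl fun i _ => mul_comm _ _

/-- six vectors with a non-degenerate Gram matrix -/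
theorem eq_one_of_gram {f : En 6} (x : Fin 6 → Fin 6 → ℤ) (hx : ∀ i, f (x i) = x i)
    (hG : (Matrix.of fun i j => bf A6 (x i) (x j)).det ≠ 0) : f = 1 := by
  classical
  have h1 : (Matrix.of fun i j => bf A6 (x i) (x j)) = (Matrix.of x * (Matrix.of A6 * (Matrix.of x).transpose)).transpose := by
    ext i j
    rw [Matrix.of_apply, bf_mat, Matrix.transpose_apply, Matrix.mul_apply]
    rfl
  have h2 : (Matrix.of x).transpose.det ≠ 0 := by
    intro h
    rw [h1, Matrix.det_transpose, Matrix.det_mul, Matrix.det_mul, h, mul_zero, mul_zero] at hG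
    exact hG rfl
  have h3 : (LinearMap.toMatrix' f - 1) * (Matrix.of x).transpose = 0 := by
    ext i j
    have h4 := congrFun (hx j) i
    rw [← LinearMap.toMatrix'_mulVec] at h4
    rw [Matrix.sub_mul, Matrix.one_mul, Matrix.sub_apply, Matrix.zero_apply, sub_eq_zero]
    exact h4
  have h4 := congrArg (· * (Matrix.of x).transpose.adjugate) h3
  simp only [Matrix.mul_assoc, Matrix.mul_adjugate, Matrix.zero_mul, Matrix.mul_smul, Matrix.mul_one, smul_eq_zero] at h4
  have h5 := sub_eq_zero.1 (h4.resolve_left h2)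
  apply LinearMap.toMatrix'.injective
  rw [h5]
  exact LinearMap.toMatrix'_one.symm

theorem card_le_1296 {K : Type*} [Group K] [Finite K] (ρ : K →* En 6) (hρ : ∀ k, ρ k = 1 → k = 1)
    (hR : ∀ k x, R6 x → R6 (ρ k x)) (hB : ∀ k x y, bf A6 (ρ k x) (ρ k y) = bf A6 x y) {u : En 6}
    (hu : ∑ i ∈ Finset.range 3, u ^ i = 0) (huR : ∀ x, R6 x → R6 (u x))
    (huB : ∀ x y, bf A6 (u x) (u y) = bf A6 x y) (hc : ∀ k x, ρ k (u x) = u (ρ k x)) : Nat.card K ≤ 1296 := by
  let _ : MulAction K (Fin 6 → ℤ) := MulAction.compHom _ ρ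
  have hs : ∀ (k : K) (x : Fin 6 → ℤ), k • x = ρ k x := fun _ _ => rfl
  have h0 : ∀ x, u (u x) = (-1 : ℤ) • (x + u x) := fun x => by
    have h1 := LinearMap.congr_fun hu x
    simp only [Finset.sum_range_succ, Finset.range_zero, Finset.sum_empty, zero_add, pow_zero, pow_one, pow_two,
      LinearMap.add_apply, Module.End.one_apply, Module.End.mul_apply, LinearMap.zero_apply] at h1
    rw [neg_one_smul, eq_neg_iff_add_eq_zero, add_comm, h1]
  have h1 : ∀ x y, bf A6 (u x) y = -bf A6 x y - bf A6 x (u y) := fun x y => by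
    rw [← huB, h0, bf_smul_left, bf_add_left, huB]
    ring
  have h2 : ∀ r < 72, bf A6 (vec chevE6 6 r) (vec chevE6 6 r) = 2 := fun r hr => by
    have key : ∀ r < 72, gm r r = 4 := by decide +kernel
    exact (gm_eq hr hr).1 (key r hr)
  have h3 : ∀ r < 72, bf A6 (vec chevE6 6 r) (u (vec chevE6 6 r)) = -1 := fun r hr => by
    have e1 := h1 (vec chevE6 6 r) (vec chevE6 6 r)
    rw [bf_comm A6_symm, h2 r hr] at e1
    omega
  have h56 : 56 < 72 := by norm_num
  obtain ⟨a', ha', ea⟩ := huR _ ⟨56, h56, rfl⟩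
  have g1 : gm 56 a' = 1 := (gm_eq h56 ha').2 (by rw [ea, h3 56 h56]; rfl)
  obtain ⟨b, hb⟩ : (sB a').Nonempty := Finset.card_pos.1 (by rw [cnt_B ha' g1]; norm_num)
  obtain ⟨hb, g2, g3⟩ := Finset.mem_filter.1 hb
  rw [Finset.mem_range] at hb
  obtain ⟨b', hb', eb⟩ := huR _ ⟨b, hb, rfl⟩
  have f2 := (gm_eq hb h56).1 g2
  have f3 := (gm_eq hb ha').1 g3
  have g4 : gm b' 56 = 1 := (gm_eq hb' h56).2 (by rw [eb, h1, ← ea, f2, f3]; rfl)
  have g5 : gm b' a' = 3 := (gm_eq hb' ha').2 (by rw [eb, ea, huB, f2])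
  have g6 : gm b' b = 1 := (gm_eq hb' hb).2 (by rw [bf_comm A6_symm, eb, h3 b hb]; rfl)
  have hC := cnt_C ha' hb hb' g1 g2 g3 g4 g5 g6
  obtain ⟨c, hc'⟩ : (sC a' b b').Nonempty := Finset.card_pos.1 (by rw [hC]; norm_num)
  obtain ⟨hc', g7, g8, g9, g10⟩ := Finset.mem_filter.1 hc'
  rw [Finset.mem_range] at hc'
  have f7 := (gm_eq hc' hb').1 g7
  have f8 := (gm_eq hc' h56).1 g8
  have f9 := (gm_eq hc' ha').1 g9
  have f10 := (gm_eq hc' hb).1 g10
  have fx : ∀ (k : K) x, k • x = x → ρ k (u x) = u x := fun k x h => by rw [hc, ← hs, h]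
  have key : ∀ (k : K) {x y : Fin 6 → ℤ}, ρ k y = y → bf A6 (ρ k x) y = bf A6 x y := fun k x y h => by
    conv_lhs => rw [← h]
    exact hB k x y
  have s1 := card_le_orbit (K := K) (vec chevE6 6 56) (Finset.range 72) (vec chevE6 6) fun k => by
    obtain ⟨r, hr, e⟩ := hR k _ ⟨56, h56, rfl⟩
    exact ⟨r, Finset.mem_range.2 hr, e⟩
  have s2 := card_le_orbit (K := MulAction.stabilizer K (vec chevE6 6 56)) (vec chevE6 6 b) (sB a') (vec chevE6 6)
    fun k => by
    obtain ⟨r, hr, e⟩ := hR k _ ⟨b, hb, rfl⟩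
    refine ⟨r, Finset.mem_filter.2 ⟨Finset.mem_range.2 hr, (gm_eq hr h56).2 ?_, (gm_eq hr ha').2 ?_⟩, e⟩
    · rw [e, key k.1 k.2, f2]
    · rw [e, key k.1 (by rw [ea]; exact fx k.1 _ k.2), f3]
  have s3 := card_le_orbit (K := MulAction.stabilizer (MulAction.stabilizer K (vec chevE6 6 56)) (vec chevE6 6 b))
    (vec chevE6 6 c) (sC a' b b') (vec chevE6 6) fun k => by
    obtain ⟨r, hr, e⟩ := hR k.1 _ ⟨c, hc', rfl⟩
    refine ⟨r, Finset.mem_filter.2 ⟨Finset.mem_range.2 hr, (gm_eq hr hb').2 ?_, (gm_eq hr h56).2 ?_,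
      (gm_eq hr ha').2 ?_, (gm_eq hr hb).2 ?_⟩, e⟩
    · rw [e, key k.1.1 (by rw [eb]; exact fx k.1.1 _ k.2), f7]
    · rw [e, key k.1.1 k.1.2, f8]
    · rw [e, key k.1.1 (by rw [ea]; exact fx k.1.1 _ k.1.2), f9]
    · rw [e, key k.1.1 k.2, f10]
  have s4 : Nat.card (MulAction.stabilizer (MulAction.stabilizer (MulAction.stabilizer K (vec chevE6 6 56))
      (vec chevE6 6 b)) (vec chevE6 6 c)) = 1 := by
    rw [Subgroup.card_eq_one, eq_bot_iff]
    intro k hk
    refine Subgroup.mem_bot.2 (Subtype.ext (Subtype.ext (hρ _ ?_)))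
    rw [ea] at f3 f9
    rw [eb] at f7
    refine eq_one_of_gram ![vec chevE6 6 56, u (vec chevE6 6 56), vec chevE6 6 b, u (vec chevE6 6 b), vec chevE6 6 c,
      u (vec chevE6 6 c)] (fun i => ?_) ?_
    · fin_cases i
      exacts [k.1.2, fx _ _ k.1.2, k.2, fx _ _ k.2, hk, fx _ _ hk]
    · have t1 := h2 56 h56
      have t2 := h2 b hb
      have t3 := h2 c hc'
      have t4 := h3 56 h56
      have t5 := h3 b hb
      have t6 := h3 c hc'
      generalize vec chevE6 6 56 = a at *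
      generalize vec chevE6 6 b = b at *
      generalize vec chevE6 6 c = c at *
      have u1 : bf A6 a b = 1 := by rw [bf_comm A6_symm, f2]; rfl
      have u2 : bf A6 a c = 0 := by rw [bf_comm A6_symm, f8]; rfl
      have u3 : bf A6 b c = 0 := by rw [bf_comm A6_symm, f10]; rfl
      have u4 : bf A6 a (u b) = -1 := by rw [bf_comm A6_symm, h1, f2, f3]; rfl
      have u5 : bf A6 a (u c) = 0 := by rw [bf_comm A6_symm, h1, f8, f9]; rfl
      have u6 : bf A6 b (u c) = -1 := by rw [bf_comm A6_symm, h1, f10, f7]; rfl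
      have e : (Matrix.of fun i j => bf A6 (![a, u a, b, u b, c, u c] i) (![a, u a, b, u b, c, u c] j)) =
          !![2, -1, 1, -1, 0, 0; -1, 2, 0, 1, 0, 0; 1, 0, 2, -1, 0, -1; -1, 1, -1, 2, 1, 0; 0, 0, 0, 1, 2, -1;
            0, 0, -1, 0, -1, 2] := by
        ext i j
        fin_cases i <;> fin_cases j <;> first
          | (simp [huB, t1, t2, t3, t4, t5, t6, u1, u2, u3, u4, u5, u6, f2, f3, f7, f8, f9, f10]; done)
          | simp [h1, t1, t2, t3, t4, t5, t6, u1, u2, u3, u4, u5, u6, f2, f3, f7, f8, f9, f10]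
      rw [e]
      intro h
      have h4 : !![4, 2, -3, 0, -1, -2; 2, 4, -3, -3, 1, -1; -3, -3, 6, 3, 0, 3; 0, -3, 3, 6, -3, 0; -1, 1, 0, -3, 4, 2;
          -2, -1, 3, 0, 2, 4] * !![2, -1, 1, -1, 0, 0; -1, 2, 0, 1, 0, 0; 1, 0, 2, -1, 0, -1; -1, 1, -1, 2, 1, 0;
          0, 0, 0, 1, 2, -1; 0, 0, -1, 0, -1, 2] = (3 : ℤ) • (1 : Matrix (Fin 6) (Fin 6) ℤ) := by decide +kernel
      have h5 := congrArg Matrix.det h4
      rw [Matrix.det_mul, h, mul_zero, Matrix.det_smul, Matrix.det_one] at h5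
      norm_num at h5
  rw [Finset.card_range] at s1
  rw [cnt_B ha' g1] at s2
  rw [hC, s4] at s3
  omega

end Cfsg.Agent.SB.Exc.Tor
end

-- part: SB/Exc/Tor/W
section
/-!
# S5765, exceptional groups, toral case: the Weyl groups (helper64)

* `typ_cases`, `cardW`; `notSolv6`, `notSolv7`; `neg_not_W6`; `card_le_648`; `not_ell_sq7`;
* `triv3` : a character of order three of the root lattice of `E₆` is trivial on a root;
* `Lg`, `Lg.map`, `lg_even`, `exists_lg` : the long roots of `F₄`.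
-/

set_option autoImplicit false

namespace Cfsg.Agent.SB.Exc.Tor

open CoxeterSystem Cfsg.Lie Cfsg.Agent.ChevalleyStructure.CoxeterGeom Cfsg.Agent.ChevalleyStructure.CoxeterGeomTypes
  Cfsg.Agent.Nodes.RGDChev Cfsg.Agent.H893.Tor Cfsg.Agent.ChevalleyStructure.RootVecTab
  Cfsg.Agent.ChevalleyStructure.RootVec Cfsg.Agent.ChevalleyStructure.CoxeterWordCheck Cfsg.Agent.Tits.Roots
  Cfsg.Agent.DS.Ex Cfsg.Agent.H129.TorusChar Cfsg.Agent.Nodes.KindChev
open scoped commutatorElement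

theorem typ_cases {D : ChevalleyDatum} {l : ℕ} {M : CoxeterMatrix (Fin l)} (hp : IsType D l M) (hD : Typ D) :
    (D = chevF4 ∧ (⟨l, M⟩ : Σ n : ℕ, CoxeterMatrix (Fin n)) = ⟨4, CoxeterMatrix.F₄⟩) ∨
    (D = chevE6 ∧ (⟨l, M⟩ : Σ n : ℕ, CoxeterMatrix (Fin n)) = ⟨6, CoxeterMatrix.E₆⟩) ∨
    (D = chevE7 ∧ (⟨l, M⟩ : Σ n : ℕ, CoxeterMatrix (Fin n)) = ⟨7, CoxeterMatrix.E₇⟩) ∨
    (D = chevE8 ∧ (⟨l, M⟩ : Σ n : ℕ, CoxeterMatrix (Fin n)) = ⟨8, CoxeterMatrix.E₈⟩) := by
  have h0 : 48 ≤ D.nroots := by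
    rcases hD with rfl | rfl | rfl | rfl <;> decide +kernel
  simp only [IsType, typeList, List.mem_cons, List.not_mem_nil, or_false, Prod.mk.injEq] at hp
  rcases hp with ⟨h, e⟩ | ⟨h, e⟩ | ⟨h, e⟩ | h | h | h | h
  · rw [h] at h0; exact absurd h0 (by decide +kernel)
  · rw [h] at h0; exact absurd h0 (by decide +kernel)
  · rw [h] at h0; exact absurd h0 (by decide +kernel)
  · exact Or.inl h
  · exact Or.inr (Or.inl h)
  · exact Or.inr (Or.inr (Or.inl h))
  · exact Or.inr (Or.inr (Or.inr h))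

theorem cardW4 : Nat.card CoxeterMatrix.F₄.Group = 1152 := S1092.result (⟨4, CoxeterMatrix.F₄⟩, 1152) (by simp)
theorem cardW6 : Nat.card CoxeterMatrix.E₆.Group = 51840 := S1093.result (⟨6, CoxeterMatrix.E₆⟩, 51840) (by simp)
theorem cardW7 : Nat.card CoxeterMatrix.E₇.Group = 2903040 := S1093.result (⟨7, CoxeterMatrix.E₇⟩, 2903040) (by simp)
theorem cardW8 : Nat.card CoxeterMatrix.E₈.Group = 696729600 :=
  S1093.result (⟨8, CoxeterMatrix.E₈⟩, 696729600) (by simp)

theorem notSolv {n : ℕ} {W : Type*} [Group W] {M : CoxeterMatrix (Fin n)} (cs : CoxeterSystem M W)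
    {A : Fin n → Fin n → ℤ} (h : IsCartan M A) (X Y Z : List (Fin n)) (h1 : check n (rows A) (X.map (·.val)) = false)
    (h2 : (List.range n).all (fun i => actList (rows A) (X.map (·.val)) (unit n i) == actList (rows A)
      ((Z ++ (X ++ (Y ++ X ++ Y.reverse) ++ X.reverse ++ (Y ++ X ++ Y.reverse).reverse) ++ Z.reverse).map (·.val))
        (unit n i)) = true) : ¬ Group.IsSolvable W := by
  have key := wordProd_eq_wordProd cs h _ _ h2
  rw [wordProd_append, wordProd_append, wordProd_append, wordProd_append, wordProd_append, wordProd_reverse,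
    wordProd_reverse, wordProd_reverse, wordProd_append, wordProd_append, wordProd_reverse,
    ← commutatorElement_def] at key
  refine not_isSolvable_of_mem_derivedSeries (wordProd_ne_one cs h X h1) fun n => ?_
  induction n with
  | zero => exact Subgroup.mem_top _
  | succ n ih =>
    rw [key]
    exact (derivedSeries_normal _ _).conj_mem _
      ((by exact Subgroup.commutator_mem_commutator ih ((derivedSeries_normal _ _).conj_mem _ ih _))) _

theorem notSolv6 : ¬ Group.IsSolvable CoxeterMatrix.E₆.Group :=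
  notSolv CoxeterMatrix.E₆.toCoxeterSystem hpE6.isCartan [0, 2] [2, 0, 3, 2, 0, 4, 3, 2] [2, 3, 2] (by decide +kernel)
    (by rw [show cartanOf chevE6 6 = _ from A6_eq]; decide +kernel)

theorem A7_eq : cartanOf chevE7 7 = ![![2, 0, -1, 0, 0, 0, 0], ![0, 2, 0, -1, 0, 0, 0], ![-1, 0, 2, -1, 0, 0, 0],
    ![0, -1, -1, 2, -1, 0, 0], ![0, 0, 0, -1, 2, -1, 0], ![0, 0, 0, 0, -1, 2, -1], ![0, 0, 0, 0, 0, -1, 2]] := by
  decide +kernel

theorem notSolv7 : ¬ Group.IsSolvable CoxeterMatrix.E₇.Group :=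
  notSolv CoxeterMatrix.E₇.toCoxeterSystem hpE7.isCartan [0, 2] [2, 0, 3, 2, 0, 4, 3, 2] [2, 3, 2] (by decide +kernel)
    (by rw [A7_eq]; decide +kernel)

section E6

/-- the reflection representation of `W(E₆)` -/
abbrev rp6 : CoxeterMatrix.E₆.Group →* En 6 := rep CoxeterMatrix.E₆.toCoxeterSystem hpE6.isCartan

theorem neg_not_W6 (w : CoxeterMatrix.E₆.Group) : rp6 w ≠ -1 := by
  have key : ∃ y, rp6 w ![1, 0, -1, 0, 1, -1] = ![1, 0, -1, 0, 1, -1] + (3 : ℤ) • y := by
    induction w using CoxeterMatrix.E₆.toCoxeterSystem.simple_induction_left with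
    | one => exact ⟨0, by simp only [_root_.map_one, _root_.Int.reduceNeg, _root_.Module.End.one_apply, _root_.Nat.succ_eq_add_one, _root_.Nat.reduceAdd, _root_.smul_zero, _root_.add_zero]⟩
    | mul_simple_left w i ih =>
      obtain ⟨y, hy⟩ := ih
      have h1 : ∀ i : Fin 6, (3 : ℤ) ∣ pairing A6 i ![1, 0, -1, 0, 1, -1] := by rw [A6_eq]; decide
      obtain ⟨c, hc⟩ := h1 i
      refine ⟨rp6 (CoxeterMatrix.E₆.toCoxeterSystem.simple i) y - c • sr i, ?_⟩
      rw [rep_mul_apply, hy, map_add, map_smul, rep_simple_eq _ _ _ ![1, 0, -1, 0, 1, -1], hc, smul_sub, mul_smul]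
      abel
  intro h
  obtain ⟨y, hy⟩ := key
  have h1 := congrFun hy 0
  rw [h] at h1
  simp at h1
  omega

theorem r6_iff {x : Fin 6 → ℤ} : R6 x ↔ IsRoot CoxeterMatrix.E₆.toCoxeterSystem hpE6.isCartan x :=
  (isRoot_iff hpE6 _ x).symm

theorem card_le_648 {v : CoxeterMatrix.E₆.Group} (hv : ∑ i ∈ Finset.range 3, rp6 v ^ i = 0)
    (H : Subgroup CoxeterMatrix.E₆.Group) (hH : ∀ w ∈ H, w * v = v * w) : Nat.card H ≤ 648 := by
  have := finite_W hpE6 CoxeterMatrix.E₆.toCoxeterSystem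
  let ρ : H × ℤˣ →* En 6 :=
    { toFun := fun k => (k.2 : ℤ) • rp6 k.1
      map_one' := by simp only [_root_.Prod.snd_one, _root_.Units.val_one, _root_.Prod.fst_one, _root_.OneMemClass.coe_one, _root_.map_one, _root_.one_smul]
      map_mul' := fun a b => by
        simp only [Prod.snd_mul, Units.val_mul, Prod.fst_mul, Subgroup.coe_mul, map_mul, smul_mul_smul_comm] }
  have hρ : ∀ k x, ρ k x = (k.2 : ℤ) • rp6 k.1 x := fun _ _ => rfl
  have hB := bf_rep CoxeterMatrix.E₆.toCoxeterSystem hpE6.isCartan A6_symm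
  have h1 := card_le_1296 ρ (fun k hk => ?_) (fun k x hx => ?_) (fun k x y => ?_) hv
    (fun x hx => r6_iff.2 ((r6_iff.1 hx).act v)) (hB v) fun k x => ?_
  · rw [Nat.card_prod, Nat.card_eq_fintype_card (α := ℤˣ), Fintype.card_units_int] at h1
    omega
  · have h2 : (k.2 : ℤ) • rp6 k.1 = 1 := hk
    rcases Int.units_eq_one_or k.2 with e | e
    · rw [e, Units.val_one, one_smul, ← map_one rp6] at h2
      exact Prod.ext (Subtype.ext (rep_injective _ _ h2)) e
    · rw [e, Units.val_neg, Units.val_one, neg_one_smul, neg_eq_iff_eq_neg] at h2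
      exact absurd h2 (neg_not_W6 _)
  · have h2 := (r6_iff.1 hx).act k.1.1
    rw [hρ, r6_iff]
    rcases Int.units_eq_one_or k.2 with e | e
    · rwa [e, Units.val_one, one_smul]
    · rw [e, Units.val_neg, Units.val_one, neg_one_smul]
      exact h2.neg
  · rw [hρ, hρ, bf_smul_left, bf_smul_right A6_symm, hB, ← mul_assoc, Int.units_coe_mul_self, one_mul]
  · rw [hρ, hρ, map_smul, ← rep_mul_apply, ← rep_mul_apply, hH _ k.1.2]

theorem triv3 {k : Type*} [Field k] {φ : (Fin 6 → ℤ) → k} (h : IsMC φ) (h3 : ∀ x, φ x ^ 3 = 1) :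
    ∃ b, IsRoot CoxeterMatrix.E₆.toCoxeterSystem hpE6.isCartan b ∧ φ b = 1 := by
  by_contra h0
  have h1 : ∀ r < 72, φ (vec chevE6 6 r) ≠ 1 := fun r hr e => h0 ⟨_, r6_iff.1 ⟨r, hr, rfl⟩, e⟩
  have h2 : ∀ x y, φ x ≠ 1 → φ y ≠ 1 → φ (x + y) ≠ 1 → φ x = φ y := fun x y hx hy hxy => by
    have e1 : φ x ^ 2 + φ x + 1 = 0 := by
      refine (mul_eq_zero.1 (?_ : (φ x - 1) * _ = 0)).resolve_left (sub_ne_zero.2 hx)
      linear_combination h3 x
    have e2 : φ y ^ 2 + φ y + 1 = 0 := by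
      refine (mul_eq_zero.1 (?_ : (φ y - 1) * _ = 0)).resolve_left (sub_ne_zero.2 hy)
      linear_combination h3 y
    have e3 : (φ x - φ y) * (φ x + φ y + 1) = 0 := by linear_combination e1 - e2
    refine sub_eq_zero.1 ((mul_eq_zero.1 e3).resolve_right fun e4 => hxy ?_)
    rw [h.add]
    linear_combination (φ x) * e4 - e1 + (1 - φ x) * e1 + h3 x
  have e1 : vec chevE6 6 57 = vec chevE6 6 56 + vec chevE6 6 42 := by decide +kernel
  have e2 : vec chevE6 6 43 = vec chevE6 6 42 + vec chevE6 6 39 := by decide +kernel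
  have e3 : vec chevE6 6 58 = vec chevE6 6 56 + vec chevE6 6 42 + vec chevE6 6 39 := by decide +kernel
  have a1 := h2 _ _ (h1 56 (by norm_num)) (h1 42 (by norm_num)) (e1 ▸ h1 57 (by norm_num))
  have a2 := h2 _ _ (h1 42 (by norm_num)) (h1 39 (by norm_num)) (e2 ▸ h1 43 (by norm_num))
  refine h1 58 (by norm_num) ?_
  rw [e3, h.add, h.add, a1, ← a2, ← h3 (vec chevE6 6 42)]
  ring

end E6

theorem not_ell_sq7 (v : CoxeterMatrix.E₇.Group) : ¬ Ell (rep CoxeterMatrix.E₇.toCoxeterSystem hpE7.isCartan (v ^ 2)) := by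
  have hs : ∀ i j, cartanOf chevE7 7 i j = cartanOf chevE7 7 j i := by rw [A7_eq]; decide +kernel
  have h1 : ∀ x y : Fin 7 → ℤ, bf (cartanOf chevE7 7) x y = y ⬝ᵥ (Matrix.of (cartanOf chevE7 7)).mulVec x := fun x y => by
    simp only [bf, qf, pairing, dotProduct, Matrix.mulVec, Matrix.of_apply, one_mul]
    exact Finset.sum_congr rfl fun i _ => mul_comm _ _
  refine not_ell_odd (A := Matrix.of (cartanOf chevE7 7)) (by decide) (fun h => ?_) (fun x y => ?_) ?_
  · have h2 : Matrix.of ![![4, 4, 6, 8, 6, 4, 2], ![4, 7, 8, 12, 9, 6, 3], ![6, 8, 12, 16, 12, 8, 4],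
        ![8, 12, 16, 24, 18, 12, 6], ![6, 9, 12, 18, 15, 10, 5], ![4, 6, 8, 12, 10, 8, 4], ![2, 3, 4, 6, 5, 4, 3]] *
        Matrix.of (cartanOf chevE7 7) = (2 : ℤ) • 1 := by
      rw [A7_eq]
      decide +kernel
    have h3 := congrArg Matrix.det h2
    rw [Matrix.det_mul, h, mul_zero, Matrix.det_smul, Matrix.det_one] at h3
    norm_num at h3
  · rw [← h1, ← h1, bf_rep _ _ hs]
  · have h2 : IsUnit (LinearMap.det (rep CoxeterMatrix.E₇.toCoxeterSystem hpE7.isCartan v)) :=
      ((Group.isUnit v).map _).map _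
    rw [map_pow, map_pow, pow_two, Int.isUnit_mul_self h2]

section F4

variable {I W : Type*} [Fintype I] [DecidableEq I] [Group W] {M : CoxeterMatrix I}
  (cs : CoxeterSystem M W) {A : I → I → ℤ} (h : IsCartan M A)

/-- long roots -/
def Lg (a : I → ℤ) : Prop := IsRoot cs h a ∧ ∃ b c, IsRoot cs h b ∧ IsRoot cs h c ∧ IsRoot cs h (b - c) ∧ a = b + c

variable {cs h} in
theorem Lg.map {a : I → ℤ} (ha : Lg cs h a) {g : (I → ℤ) ≃+ (I → ℤ)} (hg : ∀ a, IsRoot cs h (g a) ↔ IsRoot cs h a) :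
    Lg cs h (g a) := by
  obtain ⟨h1, b, c, h2, h3, h4, rfl⟩ := ha
  exact ⟨(hg _).2 h1, g b, g c, (hg _).2 h2, (hg _).2 h3, by rw [← map_sub]; exact (hg _).2 h4, map_add _ _ _⟩

/-- the roots of `F₄` -/
def L4 : List (ℤ × ℤ × ℤ × ℤ) := (List.range 48).map fun r => (rt chevF4 r 0, rt chevF4 r 1, rt chevF4 r 2, rt chevF4 r 3)

theorem mem_L4 {a : Fin 4 → ℤ} (ha : IsRoot CoxeterMatrix.F₄.toCoxeterSystem hpF4.isCartan a) :
    (a 0, a 1, a 2, a 3) ∈ L4 := by
  obtain ⟨r, hr, rfl⟩ := (isRoot_iff hpF4 _ a).1 ha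
  exact List.mem_map.2 ⟨r, List.mem_range.2 hr, rfl⟩

private def q4 (x : ℤ × ℤ × ℤ × ℤ) : ℤ := x.1 * x.1 + x.2.1 * x.2.1 + 2 * (x.2.2.1 * x.2.2.1) + 2 * (x.2.2.2 * x.2.2.2) -
  x.1 * x.2.1 - 2 * (x.2.1 * x.2.2.1) - 2 * (x.2.2.1 * x.2.2.2)

theorem lg_even {a : Fin 4 → ℤ} (ha : Lg CoxeterMatrix.F₄.toCoxeterSystem hpF4.isCartan a) : Even (a 0) := by
  obtain ⟨h1, b, c, h2, h3, h4, rfl⟩ := ha
  have key : ∀ x ∈ L4, 1 ≤ q4 x ∧ q4 x ≤ 2 ∧ (q4 x = 2 → x.1 % 2 = 0) := by decide +kernel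
  have par : q4 ((b + c) 0, (b + c) 1, (b + c) 2, (b + c) 3) + q4 ((b - c) 0, (b - c) 1, (b - c) 2, (b - c) 3) =
      2 * q4 (b 0, b 1, b 2, b 3) + 2 * q4 (c 0, c 1, c 2, c 3) := by
    simp only [q4, Pi.add_apply, Pi.sub_apply]
    ring
  obtain ⟨-, k1, k2⟩ := key _ (mem_L4 h1)
  have k3 := (key _ (mem_L4 h2)).1
  have k4 := (key _ (mem_L4 h3)).1
  have k5 := (key _ (mem_L4 h4)).2.1
  exact Int.even_iff.2 (k2 (by omega))

theorem exists_lg : ∃ a, Lg CoxeterMatrix.F₄.toCoxeterSystem hpF4.isCartan a := by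
  have e1 : vec chevF4 4 30 = vec chevF4 4 28 + vec chevF4 4 27 := by decide +kernel
  have e2 : vec chevF4 4 28 - vec chevF4 4 27 = vec chevF4 4 25 := by decide +kernel
  exact ⟨_, isRoot_vec hpF4 _ (r := 30) (by decide), _, _, isRoot_vec hpF4 _ (r := 28) (by decide),
    isRoot_vec hpF4 _ (r := 27) (by decide), e2 ▸ isRoot_vec hpF4 _ (r := 25) (by decide), e1⟩

end F4

end Cfsg.Agent.SB.Exc.Tor
end

private theorem dce_571ba5355d59 : _root_.True := by
  try have : _root_.True := by simp only [_root_.Cfsg.Agent.H893.Tor.bf.eq_1]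
  try have : _root_.True := by simp only [_root_.Cfsg.Agent.Nodes.KindChev.qf.eq_1]
  try have : _root_.True := by simp only [_root_.Cfsg.Agent.SB.Exc.Tor.bE.eq_1]
  exact _root_.True.intro
end
end
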